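import Groth.Agent.ResProp.EF.Grp
import Groth.Agent.HopfRep.K187.HochMap
import Groth.Agent.Hoch.K915.DSq

/-!
# Functoriality of Hochschild cochains in the comodule and in the group (job 629, block G2b of `S16912`)

Helper lemmas for the cochains `GMod.C`, the differential `GMod.d`, the maps `cmap` and `cres` of `EF/Grp.lean`.
-/

set_option autoImplicit false

universe u

open TensorProduct

noncomputable section

namespace Groth.Agent.ResProp.EF.K359

open Groth.Agent.ResProp.EF.Grp

variable {k : Type u} [CommRing k]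

section Step

variable {A B : Type u} [CommRing A] [CommRing B] [Bialgebra k A] [Bialgebra k B]
variable {X Y : Type u} [AddCommGroup X] [Module k X] [AddCommGroup Y] [Module k Y]

/-- `tail` is natural in the module and in the bialgebra. -/
theorem tail_map (φ : A →ₐc[k] B) (f : X →ₗ[k] Y) (y : X ⊗[k] A) :
    Hoch.tail k B Y (TensorProduct.map f (φ : A →ₐ[k] B).toLinearMap y) =
      TensorProduct.map (TensorProduct.map f (φ : A →ₐ[k] B).toLinearMap) (φ : A →ₐ[k] B).toLinearMap
        (Hoch.tail k A X y) := by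
  induction y using TensorProduct.induction_on with
  | zero => simp
  | add y z hy hz => simp only [map_add, hy, hz]
  | tmul x a =>
    have hΔ : Coalgebra.comul (R := k) (φ a) =
        TensorProduct.map (φ : A →ₐ[k] B).toLinearMap (φ : A →ₐ[k] B).toLinearMap (Coalgebra.comul (R := k) a) :=
      (CoalgHomClass.map_comp_comul_apply φ a).symm
    have h1 : ∀ w : A ⊗[k] A, TensorProduct.map (TensorProduct.map f (φ : A →ₐ[k] B).toLinearMap)
        (φ : A →ₐ[k] B).toLinearMap ((TensorProduct.assoc k X A A).symm (x ⊗ₜ[k] w)) =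
        (TensorProduct.assoc k Y B B).symm (f x ⊗ₜ[k]
          TensorProduct.map (φ : A →ₐ[k] B).toLinearMap (φ : A →ₐ[k] B).toLinearMap w) := by
      intro w
      induction w using TensorProduct.induction_on with
      | zero => simp
      | add z₁ z₂ h₁ h₂ => simp only [map_add, TensorProduct.tmul_add, h₁, h₂]
      | tmul a b => simp
    rw [TensorProduct.map_tmul, Hoch.tail_tmul, Hoch.tail_tmul, h1]
    have e : (φ : A →ₐ[k] B).toLinearMap a = φ a := rfl
    rw [e, hΔ, map_sub, map_sub, TensorProduct.map_tmul, TensorProduct.map_tmul]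
    have e1 : (φ : A →ₐ[k] B).toLinearMap 1 = 1 := map_one φ
    rw [e1]
    rfl

/-- The step for morphisms of complexes over a homomorphism of bialgebras. -/
theorem map_step (φ : A →ₐc[k] B) (f : X →ₗ[k] Y) (D : X →ₗ[k] X ⊗[k] A) (E : Y →ₗ[k] Y ⊗[k] B) (c : k)
    (h : ∀ x, E (f x) = TensorProduct.map f (φ : A →ₐ[k] B).toLinearMap (D x)) (y : X ⊗[k] A) :
    (E.rTensor B + c • Hoch.tail k B Y) (TensorProduct.map f (φ : A →ₐ[k] B).toLinearMap y) =
      TensorProduct.map (TensorProduct.map f (φ : A →ₐ[k] B).toLinearMap) (φ : A →ₐ[k] B).toLinearMap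
        ((D.rTensor A + c • Hoch.tail k A X) y) := by
  rw [LinearMap.add_apply, LinearMap.add_apply, LinearMap.smul_apply, LinearMap.smul_apply, tail_map, map_add,
    map_smul]
  congr 1
  induction y using TensorProduct.induction_on with
  | zero => simp
  | add y z hy hz => simp only [map_add, hy, hz]
  | tmul x a => rw [TensorProduct.map_tmul, LinearMap.rTensor_tmul, LinearMap.rTensor_tmul, h,
      TensorProduct.map_tmul]

end Step

section Maps

variable {E : Gp k}

theorem cmap_zero (M N : GMod E) (f : M.V →ₗ[k] N.V) : cmap M N f 0 = f := rfl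

theorem cmap_succ (M N : GMod E) (f : M.V →ₗ[k] N.V) (n : ℕ) :
    cmap M N f (n + 1) = (cmap M N f n).rTensor E.O := rfl

theorem cmap_eq (M N : GMod E) (f : M.V →ₗ[k] N.V) (n : ℕ) : cmap M N f n = K187.HochMap.map k E.O f n := by
  induction n with
  | zero => rfl
  | succ n ih => rw [cmap_succ, ih]; rfl

/-- (1) a morphism of modules commutes with the differential -/
theorem d_cmap (M N : GMod E) {f : M.V →ₗ[k] N.V} (hf : Hoch.IsComodHom E.O f) (n : ℕ) (c : M.C n) :
    N.d n (cmap M N f n c) = cmap M N f (n + 1) (M.d n c) := by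
  rw [cmap_eq, cmap_eq]
  exact K187.HochMap.d_map_apply k E.O hf n c

theorem cmap_id (M : GMod E) (n : ℕ) : cmap M M LinearMap.id n = LinearMap.id := by
  rw [cmap_eq]; exact K187.HochMap.map_id k E.O n

theorem cmap_id_apply (M : GMod E) (n : ℕ) (c : M.C n) : cmap M M LinearMap.id n c = c := by
  rw [cmap_id]; rfl

theorem cmap_comp (M N P : GMod E) (g : N.V →ₗ[k] P.V) (f : M.V →ₗ[k] N.V) (n : ℕ) :
    cmap M P (g ∘ₗ f) n = cmap N P g n ∘ₗ cmap M N f n := by
  rw [cmap_eq, cmap_eq, cmap_eq]; exact K187.HochMap.map_comp k E.O g f n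

theorem cmap_comp_apply (M N P : GMod E) (g : N.V →ₗ[k] P.V) (f : M.V →ₗ[k] N.V) (n : ℕ) (c : M.C n) :
    cmap M P (g ∘ₗ f) n c = cmap N P g n (cmap M N f n c) := by
  rw [cmap_comp]; rfl

/-- the differential squares to zero -/
theorem d_d (M : GMod E) (n : ℕ) (c : M.C n) : M.d (n + 1) (M.d n c) = 0 :=
  K915.HochDSq.dd_apply k E.O M.V n c

variable {E' E'' : Gp k}

theorem cres_zero (φ : E.O →ₐc[k] E'.O) (M : GMod E) (c : M.C 0) : cres φ M 0 c = c := rfl

theorem cres_succ (φ : E.O →ₐc[k] E'.O) (M : GMod E) (n : ℕ) :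
    cres φ M (n + 1) = TensorProduct.map (cres φ M n) (φ : E.O →ₐ[k] E'.O).toLinearMap := rfl

theorem res_coact (φ : E.O →ₐc[k] E'.O) (M : GMod E) (m : M.V) :
    (M.res φ).co.coact m = TensorProduct.map LinearMap.id (φ : E.O →ₐ[k] E'.O).toLinearMap (M.co.coact m) := rfl

/-- (2) restriction commutes with the differential -/
theorem d_cres (φ : E.O →ₐc[k] E'.O) (M : GMod E) (n : ℕ) (c : M.C n) :
    (M.res φ).d n (cres φ M n c) = cres φ M (n + 1) (M.d n c) := by
  induction n with
  | zero =>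
    change (M.res φ).co.coact c - (c : M.V) ⊗ₜ[k] (1 : E'.O) =
      TensorProduct.map LinearMap.id (φ : E.O →ₐ[k] E'.O).toLinearMap (M.co.coact c - (c : M.V) ⊗ₜ[k] (1 : E.O))
    rw [res_coact, map_sub, TensorProduct.map_tmul]
    have e1 : (φ : E.O →ₐ[k] E'.O).toLinearMap 1 = 1 := map_one φ
    rw [e1]
    rfl
  | succ n ih =>
    exact map_step φ (cres φ M n) (M.d n) ((M.res φ).d n) ((-1 : k) ^ (n + 1)) ih c

/-- (5) a morphism of modules is a morphism of the restricted modules -/
theorem hom_res (φ : E.O →ₐc[k] E'.O) (M N : GMod E) {f : M.V →ₗ[k] N.V}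
    (hf : @Hoch.IsComodHom k _ E.O _ _ _ M.V _ _ M.co N.V _ _ N.co f) :
    @Hoch.IsComodHom k _ E'.O _ _ _ M.V _ _ (M.res φ).co N.V _ _ (N.res φ).co f := by
  refine LinearMap.ext fun m => ?_
  have h := LinearMap.congr_fun hf m
  change TensorProduct.map LinearMap.id (φ : E.O →ₐ[k] E'.O).toLinearMap (N.co.coact (f m)) =
    f.rTensor E'.O (TensorProduct.map LinearMap.id (φ : E.O →ₐ[k] E'.O).toLinearMap (M.co.coact m))
  have h' : N.co.coact (f m) = f.rTensor E.O (M.co.coact m) := h
  rw [h']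
  generalize M.co.coact m = w
  induction w using TensorProduct.induction_on with
  | zero => simp
  | add y z hy hz => simp only [map_add, hy, hz]
  | tmul v a => simp

/-- (4) `cres` and `cmap` commute -/
theorem cres_cmap (φ : E.O →ₐc[k] E'.O) (M N : GMod E) (f : M.V →ₗ[k] N.V) (n : ℕ) (c : M.C n) :
    cres φ N n (cmap M N f n c) = cmap (M.res φ) (N.res φ) f n (cres φ M n c) := by
  induction n with
  | zero => rfl
  | succ n ih =>
    rw [cmap_succ, cmap_succ, cres_succ, cres_succ]
    revert c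
    intro c
    induction c using TensorProduct.induction_on with
    | zero => simp
    | add y z hy hz => simp only [map_add, hy, hz]
    | tmul x a => rw [LinearMap.rTensor_tmul, TensorProduct.map_tmul, TensorProduct.map_tmul,
        LinearMap.rTensor_tmul, ih]

/-- restriction in steps, the coaction -/
theorem res_res_coact (φ : E.O →ₐc[k] E'.O) (ψ : E'.O →ₐc[k] E''.O) (M : GMod E) :
    ((M.res φ).res ψ).co.coact = (M.res (ψ.comp φ)).co.coact := by
  refine LinearMap.ext fun m => ?_
  change TensorProduct.map LinearMap.id (ψ : E'.O →ₐ[k] E''.O).toLinearMap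
      (TensorProduct.map LinearMap.id (φ : E.O →ₐ[k] E'.O).toLinearMap (M.co.coact m)) =
    TensorProduct.map LinearMap.id ((ψ.comp φ : E.O →ₐc[k] E''.O) : E.O →ₐ[k] E''.O).toLinearMap (M.co.coact m)
  generalize M.co.coact m = w
  induction w using TensorProduct.induction_on with
  | zero => simp
  | add y z hy hz => simp only [map_add, hy, hz]
  | tmul v a => rfl

theorem comod_ext {O V : Type u} [AddCommGroup O] [Module k O] [Coalgebra k O] [AddCommGroup V] [Module k V]
    {c d : HopfRep.Comod k O V} (h : c.coact = d.coact) : c = d := by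
  cases c; cases d; congr

/-- (3) restriction in steps: equality of modules -/
theorem res_res (φ : E.O →ₐc[k] E'.O) (ψ : E'.O →ₐc[k] E''.O) (M : GMod E) :
    (M.res φ).res ψ = M.res (ψ.comp φ) := by
  have h : ((M.res φ).res ψ).co = (M.res (ψ.comp φ)).co := comod_ext (res_res_coact φ ψ M)
  exact congrArg (fun c => (@GMod.mk k _ E'' M.V M.ag M.md c : GMod E'')) h

/-- (3) restriction in steps: the identity is a morphism -/
theorem hom_res_res (φ : E.O →ₐc[k] E'.O) (ψ : E'.O →ₐc[k] E''.O) (M : GMod E) :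
    @Hoch.IsComodHom k _ E''.O _ _ _ M.V _ _ ((M.res φ).res ψ).co M.V _ _ (M.res (ψ.comp φ)).co LinearMap.id := by
  refine LinearMap.ext fun m => ?_
  have h := LinearMap.congr_fun (res_res_coact φ ψ M) m
  change (M.res (ψ.comp φ)).co.coact m = LinearMap.rTensor E''.O LinearMap.id (((M.res φ).res ψ).co.coact m)
  rw [LinearMap.rTensor_id, LinearMap.id_apply, h]

theorem hom_res_res' (φ : E.O →ₐc[k] E'.O) (ψ : E'.O →ₐc[k] E''.O) (M : GMod E) :
    @Hoch.IsComodHom k _ E''.O _ _ _ M.V _ _ (M.res (ψ.comp φ)).co M.V _ _ ((M.res φ).res ψ).co LinearMap.id := by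
  refine LinearMap.ext fun m => ?_
  have h := LinearMap.congr_fun (res_res_coact φ ψ M) m
  change ((M.res φ).res ψ).co.coact m = LinearMap.rTensor E''.O LinearMap.id ((M.res (ψ.comp φ)).co.coact m)
  rw [LinearMap.rTensor_id, LinearMap.id_apply, h]

/-- (4) `cres` in steps (cochains only depend on the module and the coordinate ring) -/
theorem cres_cres (φ : E.O →ₐc[k] E'.O) (ψ : E'.O →ₐc[k] E''.O) (M : GMod E) (n : ℕ) (c : M.C n) :
    cmap ((M.res φ).res ψ) (M.res (ψ.comp φ)) LinearMap.id n (cres ψ (M.res φ) n (cres φ M n c)) =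
      cres (ψ.comp φ) M n c := by
  induction n with
  | zero => rfl
  | succ n ih =>
    rw [cmap_succ, cres_succ, cres_succ, cres_succ]
    induction c using TensorProduct.induction_on with
    | zero => simp
    | add y z hy hz => simp only [map_add, hy, hz]
    | tmul x a =>
      rw [TensorProduct.map_tmul, TensorProduct.map_tmul, TensorProduct.map_tmul, LinearMap.rTensor_tmul, ih]
      rfl

/-- restriction and tensor products: the coaction -/
theorem res_tens_coact (φ : E.O →ₐc[k] E'.O) (M N : GMod E) :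
    ((M.tens N).res φ).co.coact = ((M.res φ).tens (N.res φ)).co.coact := by
  refine TensorProduct.ext' fun m n => ?_
  change TensorProduct.map LinearMap.id (φ : E.O →ₐ[k] E'.O).toLinearMap
      ((ComodTens.Comod.tensor M.co N.co).coact (m ⊗ₜ[k] n)) =
    (ComodTens.Comod.tensor (M.res φ).co (N.res φ).co).coact (m ⊗ₜ[k] n)
  rw [ComodTens.tensor_coact_tmul, ComodTens.tensor_coact_tmul, res_coact, res_coact]
  generalize M.co.coact m = v
  generalize N.co.coact n = w
  induction v using TensorProduct.induction_on with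
  | zero => simp
  | add y z hy hz => simp only [map_add, TensorProduct.add_tmul, hy, hz]
  | tmul v a =>
    induction w using TensorProduct.induction_on with
    | zero => simp
    | add y z hy hz => simp only [map_add, TensorProduct.tmul_add, hy, hz]
    | tmul w b =>
      simp

/-- (3) restriction and tensor products: equality of modules -/
theorem res_tens (φ : E.O →ₐc[k] E'.O) (M N : GMod E) :
    (M.tens N).res φ = (M.res φ).tens (N.res φ) := by
  have h : ((M.tens N).res φ).co = ((M.res φ).tens (N.res φ)).co := comod_ext (res_tens_coact φ M N)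
  exact congrArg (fun c => (@GMod.mk k _ E' (M.V ⊗[k] N.V) _ _ c : GMod E')) h

/-- (3) restriction and tensor products: the identity is a morphism -/
theorem hom_res_tens (φ : E.O →ₐc[k] E'.O) (M N : GMod E) :
    @Hoch.IsComodHom k _ E'.O _ _ _ (M.V ⊗[k] N.V) _ _ ((M.tens N).res φ).co (M.V ⊗[k] N.V) _ _
      ((M.res φ).tens (N.res φ)).co LinearMap.id := by
  refine LinearMap.ext fun m => ?_
  have h := LinearMap.congr_fun (res_tens_coact φ M N) m
  change ((M.res φ).tens (N.res φ)).co.coact m = LinearMap.rTensor E'.O LinearMap.id (((M.tens N).res φ).co.coact m)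
  rw [LinearMap.rTensor_id, LinearMap.id_apply, h]

theorem hom_res_tens' (φ : E.O →ₐc[k] E'.O) (M N : GMod E) :
    @Hoch.IsComodHom k _ E'.O _ _ _ (M.V ⊗[k] N.V) _ _ ((M.res φ).tens (N.res φ)).co (M.V ⊗[k] N.V) _ _
      ((M.tens N).res φ).co LinearMap.id := by
  refine LinearMap.ext fun m => ?_
  have h := LinearMap.congr_fun (res_tens_coact φ M N) m
  change ((M.tens N).res φ).co.coact m = LinearMap.rTensor E'.O LinearMap.id (((M.res φ).tens (N.res φ)).co.coact m)
  rw [LinearMap.rTensor_id, LinearMap.id_apply, h]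

/-- (6) `f ⊗ g` is a morphism of modules -/
theorem hom_tens (M M' N N' : GMod E) {f : M.V →ₗ[k] M'.V} {g : N.V →ₗ[k] N'.V}
    (hf : @Hoch.IsComodHom k _ E.O _ _ _ M.V _ _ M.co M'.V _ _ M'.co f)
    (hg : @Hoch.IsComodHom k _ E.O _ _ _ N.V _ _ N.co N'.V _ _ N'.co g) :
    @Hoch.IsComodHom k _ E.O _ _ _ (M.V ⊗[k] N.V) _ _ (M.tens N).co (M'.V ⊗[k] N'.V) _ _ (M'.tens N').co
      (TensorProduct.map f g) := by
  refine TensorProduct.ext' fun m n => ?_
  have h1 : M'.co.coact (f m) = f.rTensor E.O (M.co.coact m) := LinearMap.congr_fun hf m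
  have h2 : N'.co.coact (g n) = g.rTensor E.O (N.co.coact n) := LinearMap.congr_fun hg n
  change (ComodTens.Comod.tensor M'.co N'.co).coact (f m ⊗ₜ[k] g n) =
    (TensorProduct.map f g).rTensor E.O ((ComodTens.Comod.tensor M.co N.co).coact (m ⊗ₜ[k] n))
  rw [ComodTens.tensor_coact_tmul, ComodTens.tensor_coact_tmul, h1, h2]
  generalize M.co.coact m = v
  generalize N.co.coact n = w
  induction v using TensorProduct.induction_on with
  | zero => simp
  | add y z hy hz => simp only [map_add, TensorProduct.add_tmul, hy, hz]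
  | tmul v a =>
    induction w using TensorProduct.induction_on with
    | zero => simp
    | add y z hy hz => simp only [map_add, TensorProduct.tmul_add, hy, hz]
    | tmul w b =>
      simp

theorem hom_id (M : GMod E) :
    @Hoch.IsComodHom k _ E.O _ _ _ M.V _ _ M.co M.V _ _ M.co LinearMap.id := by
  refine LinearMap.ext fun m => ?_
  change M.co.coact m = LinearMap.rTensor E.O LinearMap.id (M.co.coact m)
  rw [LinearMap.rTensor_id, LinearMap.id_apply]

theorem hom_comp (M N P : GMod E) {g : N.V →ₗ[k] P.V} {f : M.V →ₗ[k] N.V}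
    (hg : @Hoch.IsComodHom k _ E.O _ _ _ N.V _ _ N.co P.V _ _ P.co g)
    (hf : @Hoch.IsComodHom k _ E.O _ _ _ M.V _ _ M.co N.V _ _ N.co f) :
    @Hoch.IsComodHom k _ E.O _ _ _ M.V _ _ M.co P.V _ _ P.co (g ∘ₗ f) := by
  refine LinearMap.ext fun m => ?_
  have h1 : N.co.coact (f m) = f.rTensor E.O (M.co.coact m) := LinearMap.congr_fun hf m
  have h2 : P.co.coact (g (f m)) = g.rTensor E.O (N.co.coact (f m)) := LinearMap.congr_fun hg (f m)
  change P.co.coact (g (f m)) = (g ∘ₗ f).rTensor E.O (M.co.coact m)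
  rw [h2, h1, LinearMap.rTensor_comp, LinearMap.comp_apply]

/-- (6) `f ⊗ id` -/
theorem hom_rTensor (M M' N : GMod E) {f : M.V →ₗ[k] M'.V}
    (hf : @Hoch.IsComodHom k _ E.O _ _ _ M.V _ _ M.co M'.V _ _ M'.co f) :
    @Hoch.IsComodHom k _ E.O _ _ _ (M.V ⊗[k] N.V) _ _ (M.tens N).co (M'.V ⊗[k] N.V) _ _ (M'.tens N).co
      (f.rTensor N.V) :=
  hom_tens M M' N N hf (hom_id N)

/-- `id ⊗ g` -/
theorem hom_lTensor (M N N' : GMod E) {g : N.V →ₗ[k] N'.V}
    (hg : @Hoch.IsComodHom k _ E.O _ _ _ N.V _ _ N.co N'.V _ _ N'.co g) :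
    @Hoch.IsComodHom k _ E.O _ _ _ (M.V ⊗[k] N.V) _ _ (M.tens N).co (M.V ⊗[k] N'.V) _ _ (M.tens N').co
      (g.lTensor M.V) :=
  hom_tens M M N N' (hom_id M) hg

/-- `m ↦ m ⊗ x` is a morphism of modules for an invariant `x` -/
theorem hom_tmulR (M N : GMod E) (x : N.V) (hx : N.co.coact x = x ⊗ₜ[k] (1 : E.O)) :
    @Hoch.IsComodHom k _ E.O _ _ _ M.V _ _ M.co (M.V ⊗[k] N.V) _ _ (M.tens N).co (tmulR M N x) := by
  refine LinearMap.ext fun m => ?_
  change (ComodTens.Comod.tensor M.co N.co).coact (m ⊗ₜ[k] x) = (tmulR M N x).rTensor E.O (M.co.coact m)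
  rw [ComodTens.tensor_coact_tmul, hx]
  generalize M.co.coact m = v
  induction v using TensorProduct.induction_on with
  | zero => simp
  | add y z hy hz => simp only [map_add, TensorProduct.add_tmul, hy, hz]
  | tmul v a => simp [tmulR]

/-- a coboundary is mapped to a coboundary by a morphism -/
theorem isCob_cmap (M N : GMod E) {f : M.V →ₗ[k] N.V}
    (hf : @Hoch.IsComodHom k _ E.O _ _ _ M.V _ _ M.co N.V _ _ N.co f) (n : ℕ) (c : M.C (n + 1)) (h : IsCob M n c) :
    IsCob N n (cmap M N f (n + 1) c) := by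
  obtain ⟨b, rfl⟩ := h
  exact ⟨cmap M N f n b, d_cmap M N hf n b⟩

/-- a coboundary is mapped to a coboundary by restriction -/
theorem isCob_cres (φ : E.O →ₐc[k] E'.O) (M : GMod E) (n : ℕ) (c : M.C (n + 1)) (h : IsCob M n c) :
    IsCob (M.res φ) n (cres φ M (n + 1) c) := by
  obtain ⟨b, rfl⟩ := h
  exact ⟨cres φ M n b, d_cres φ M n b⟩

theorem IsCob.add {M : GMod E} {n : ℕ} {c c' : M.C (n + 1)} (h : IsCob M n c) (h' : IsCob M n c') :
    IsCob M n (c + c') := by
  obtain ⟨b, rfl⟩ := h
  obtain ⟨b', rfl⟩ := h'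
  exact ⟨b + b', map_add _ _ _⟩

theorem IsCob.sub {M : GMod E} {n : ℕ} {c c' : M.C (n + 1)} (h : IsCob M n c) (h' : IsCob M n c') :
    IsCob M n (c - c') := by
  obtain ⟨b, rfl⟩ := h
  obtain ⟨b', rfl⟩ := h'
  exact ⟨b - b', map_sub _ _ _⟩

theorem IsCob.neg {M : GMod E} {n : ℕ} {c : M.C (n + 1)} (h : IsCob M n c) : IsCob M n (-c) := by
  obtain ⟨b, rfl⟩ := h
  exact ⟨-b, map_neg _ _⟩

theorem IsCob.smul {M : GMod E} {n : ℕ} {c : M.C (n + 1)} (a : k) (h : IsCob M n c) : IsCob M n (a • c) := by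
  obtain ⟨b, rfl⟩ := h
  exact ⟨a • b, map_smul _ _ _⟩

theorem IsCob.zero (M : GMod E) (n : ℕ) : IsCob M n 0 := ⟨0, map_zero _⟩

/-- coboundaries are cocycles -/
theorem IsCob.cocycle {M : GMod E} {n : ℕ} {c : M.C (n + 1)} (h : IsCob M n c) : M.d (n + 1) c = 0 := by
  obtain ⟨b, rfl⟩ := h
  exact d_d M n b

end Maps

end Groth.Agent.ResProp.EF.K359
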